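import Cfsg.Agent.LAE65.JTransfer.Replace
import Mathlib.GroupTheory.Nilpotent

/-!
Degrees of an abelian subgroup of largest order on a critical subgroup and on its centre.
-/

set_option autoImplicit false

open scoped commutatorElement

namespace Cfsg.Agent.LAE65.JTransfer

open Cfsg LocalEven62

variable {G : Type*} [Group G]

theorem ser_mono {A X Y : Subgroup G} (h : X ≤ Y) : ∀ n, ser A X n ≤ ser A Y n
  | 0 => h
  | n + 1 => Subgroup.commutator_mono le_rfl (ser_mono h n)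

theorem ser_add (A X : Subgroup G) (m : ℕ) : ∀ n, ser A (ser A X m) n = ser A X (m + n)
  | 0 => rfl
  | n + 1 => by rw [ser_succ, ser_add A X m n]; rfl

theorem ser_lower {A X T : Subgroup G} (hA : A ≤ T) (hX : X ≤ T) :
    ∀ n, ser A X n ≤ T.lowerCentralSeries n
  | 0 => hX
  | n + 1 => by
    rw [ser_succ, Subgroup.commutator_comm, Subgroup.lowerCentralSeries_succ]
    exact Subgroup.commutator_mono (ser_lower hA hX n) hA

namespace Setup

variable {p : ℕ} {T Q C Z A : Subgroup G} (h : Setup p T Q C Z A) [Finite G] [Fact p.Prime]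
include h

theorem exists_ser_eq_bot : ∃ n, ∀ X : Subgroup G, X ≤ T → ser A X n = ⊥ := by
  haveI : Group.IsNilpotent ↥T := h.isP.isNilpotent
  obtain ⟨n, hn⟩ := (Subgroup.isNilpotent_iff_lowerCentralSeries T).1 inferInstance
  exact ⟨n, fun X hX => le_bot_iff.1 ((ser_lower h.mab.1 hX n).trans hn.le)⟩

theorem eq_bot_of_le_commutator {M : Subgroup G} (hM : M ≤ T) (hle : M ≤ ⁅A, M⁆) : M = ⊥ := by
  obtain ⟨n, hn⟩ := h.exists_ser_eq_bot
  refine le_bot_iff.1 (le_trans ?_ (hn M hM).le)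
  clear hn
  induction n with
  | zero => exact le_rfl
  | succ n ih => exact hle.trans (Subgroup.commutator_mono le_rfl ih)

omit [Finite G] [Fact p.Prime] in
theorem commutator_eq_bot_of_le {M : Subgroup G} (hM : M ≤ A) : ⁅A, M⁆ = ⊥ :=
  Subgroup.commutator_eq_bot_iff_le_centralizer.2 fun _ ha =>
    Subgroup.mem_centralizer_iff.2 fun _ hm => (h.commA (hM hm) ha).eq

omit [Finite G] [Fact p.Prime] in
/-- A bound on the commutators with generators bounds the commutator subgroup. -/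
theorem commutator_closure_le {s : Set G} (hs : s ⊆ (C : Set G)) {P : Subgroup G} (hPZ : P ≤ Z)
    (hP : ∀ a ∈ A, ∀ x ∈ s, ⁅a, x⁆ ∈ P) : ⁅A, Subgroup.closure s⁆ ≤ P :=
  Subgroup.commutator_le.2 fun a ha _ hv => h.com_closure hs hPZ (hP a ha) hv

omit [Finite G] [Fact p.Prime] in
/-- Three steps from generators in `Z`. -/
theorem ser_three_le {s : Set G} (hs : s ⊆ (Z : Set G)) {P : Subgroup G}
    (hP : ∀ a ∈ A, ∀ b ∈ A, ∀ c ∈ A, ∀ x ∈ s, ⁅a, ⁅b, ⁅c, x⁆⁆⁆ ∈ P) :
    ser A (Subgroup.closure s) 3 ≤ P := by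
  set s₁ : Set G := {m | ∃ c ∈ A, ∃ x ∈ s, ⁅c, x⁆ = m}
  set s₂ : Set G := {m | ∃ b ∈ A, ∃ y ∈ s₁, ⁅b, y⁆ = m}
  have h₁ : s₁ ⊆ (Z : Set G) := by
    rintro _ ⟨c, -, x, hx, rfl⟩
    exact h.mem_Z (hs hx)
  have h₂ : s₂ ⊆ (Z : Set G) := by
    rintro _ ⟨b, -, y, hy, rfl⟩
    exact h.mem_Z (h₁ hy)
  have e₁ : ser A (Subgroup.closure s) 1 ≤ Subgroup.closure s₁ :=
    h.commutator_closure_le (fun x hx => h.ZC (hs hx)) ((Subgroup.closure_le _).2 h₁)
      fun c hc x hx => Subgroup.subset_closure ⟨c, hc, x, hx, rfl⟩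
  have e₂ : ser A (Subgroup.closure s) 2 ≤ Subgroup.closure s₂ :=
    (Subgroup.commutator_mono le_rfl e₁).trans
      (h.commutator_closure_le (fun x hx => h.ZC (h₁ hx)) ((Subgroup.closure_le _).2 h₂)
        fun b hb y hy => Subgroup.subset_closure ⟨b, hb, y, hy, rfl⟩)
  refine (Subgroup.commutator_mono le_rfl e₂).trans ?_
  refine le_trans (h.commutator_closure_le (P := P ⊓ Z) (fun x hx => h.ZC (h₂ hx)) inf_le_right ?_)
    inf_le_left
  rintro a ha _ ⟨b, hb, _, ⟨c, hc, x, hx, rfl⟩, rfl⟩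
  exact ⟨hP a ha b hb c hc x hx, h.mem_Z (h.mem_Z (h.mem_Z (hs hx)))⟩

omit [Finite G] [Fact p.Prime] in
/-- Commutation with an element of `A ⊓ Q` carries the series of `C` into the series of its image. -/
theorem com_ser {k : G} (hk : k ∈ A ⊓ Q) {n : ℕ} {v : G} (hv : v ∈ ser A C n) :
    ⁅k, v⁆ ∈ ser A (Subgroup.closure {z | ∃ x ∈ C, ⁅k, x⁆ = z}) n := by
  haveI := h.Cn
  haveI := h.Zn
  set W := Subgroup.closure {z | ∃ x ∈ C, ⁅k, x⁆ = z}
  have hW : W ≤ Z := by
    refine (Subgroup.closure_le _).2 ?_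
    rintro _ ⟨x, hx, rfl⟩
    exact h.comm k hk.2 x hx
  induction n generalizing v with
  | zero => exact Subgroup.subset_closure ⟨v, hv, rfl⟩
  | succ n ih =>
    refine h.com_closure (s := {m | ∃ a ∈ A, ∃ u ∈ ser A C n, ⁅a, u⁆ = m}) ?_ (ser_le hW _) ?_ hv
    · rintro _ ⟨a, -, u, hu, rfl⟩
      exact h.mem_C (ser_le le_rfl n hu)
    · rintro _ ⟨a, ha, u, hu, rfl⟩
      have huC : u ∈ C := ser_le le_rfl n hu
      rw [h.com_comm (h.commA hk.1 ha) huC (h.comm k hk.2 u huC)]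
      exact Subgroup.commutator_mem_commutator ha (ih hu)

/-- Degree three: second commutators on an element of `Z` are first ones by elements of `A ⊓ Q`. -/
theorem exists_rep_two {x : G} (hx : x ∈ Z) {m : G} (hm : m ∈ ⁅A, comPart A x⁆) :
    ∃ k ∈ A ⊓ Q, ∀ a ∈ A, ⁅a, m⁆ = ⁅a, ⁅k, x⁆⁆ := by
  classical
  haveI := h.Zn
  set M := comPart A x with hM
  have hMZ : M ≤ Z := by
    rw [hM, comPart, Subgroup.closure_le]
    rintro _ ⟨a, -, rfl⟩
    exact h.mem_Z hx
  have hex : ∃ n, ser A M n = ⊥ := by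
    obtain ⟨n, hn⟩ := h.exists_ser_eq_bot
    exact ⟨n, hn M (h.le_T (hMZ.trans h.ZC))⟩
  have hmM : m ∈ M := by
    refine (?_ : ⁅A, M⁆ ≤ M) hm
    refine Subgroup.commutator_le.2 fun b hb v hv => ?_
    have hsub : {m | ∃ a ∈ A, ⁅a, x⁆ = m} ⊆ (C : Set G) := by
      rintro _ ⟨a, -, rfl⟩
      exact h.ZC (h.mem_Z hx)
    refine h.com_closure hsub hMZ ?_ hv
    rintro _ ⟨a, ha, rfl⟩
    have hv1 : ⁅b, ⁅a, x⁆⁆ = ⁅b * a, x⁆ * ⁅b, x⁆⁻¹ * ⁅a, x⁆⁻¹ := by
      have e := commutatorElement_mul_left_eq_conj_mul b a x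
      have e' : b * ⁅a, x⁆ * b⁻¹ = ⁅b, ⁅a, x⁆⁆ * ⁅a, x⁆ := by
        simp [commutatorElement_def, mul_assoc]
      rw [e, mul_inv_cancel_right, e', mul_inv_cancel_right]
    rw [hv1]
    exact M.mul_mem (M.mul_mem (commutator_mem_comPart (A.mul_mem hb ha) x)
      (M.inv_mem (commutator_mem_comPart hb x))) (M.inv_mem (commutator_mem_comPart ha x))
  obtain ⟨b, hb, k, hk, hmk⟩ :=
    h.exists_rep (hMZ.trans h.ZC) (h.comm_Z hMZ) (Subgroup.mem_sup_left hmM)
  have hfix : ∀ a ∈ A, ⁅a, m⁆ = ⁅a, ⁅b, x⁆⁆ := by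
    intro a ha
    rw [hmk, commutatorElement_mul_right_eq_mul_conj,
      commutatorElement_eq_one_iff_mul_comm.2 (h.commA ha hk.1).eq, mul_one, mul_inv_cancel_right]
  by_cases hbQ : b ∈ Q
  · exact ⟨b, ⟨hb, hbQ⟩, hfix⟩
  refine ⟨1, ⟨A.one_mem, Q.one_mem⟩, fun a ha => ?_⟩
  rw [commutatorElement_one_left, commutatorElement_one_right]
  by_contra hne
  have ham : ⁅a, m⁆ ∈ ser A M 2 := Subgroup.commutator_mem_commutator ha hm
  set n := Nat.find hex with hn
  have hn3 : 3 ≤ n := by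
    by_contra hlt
    have : ser A M 2 = ⊥ := by
      have h2 := Nat.find_spec hex
      rw [← hn] at h2
      interval_cases n
      · rw [ser_zero] at h2
        rw [ser_succ, ser_succ, ser_zero, h2, Subgroup.commutator_bot_right,
          Subgroup.commutator_bot_right]
      · rw [ser_succ, h2, Subgroup.commutator_bot_right]
      · exact h2
    exact hne (Subgroup.mem_bot.1 (this ▸ ham))
  have hcom : ∀ t, ∀ v ∈ ser A M t, ⁅b, v⁆ ∈ ser A M (t + 2) := by
    intro t
    induction t with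
    | zero =>
      intro v hv
      have hsub : {m | ∃ a ∈ A, ⁅a, x⁆ = m} ⊆ (C : Set G) := by
        rintro _ ⟨a, -, rfl⟩
        exact h.ZC (h.mem_Z hx)
      refine h.com_closure hsub (ser_le hMZ 2) ?_ hv
      rintro _ ⟨c, hc, rfl⟩
      rw [h.com_comm (h.commA hb hc) (h.ZC hx) (h.mem_Z hx), ← hfix c hc]
      exact Subgroup.commutator_mem_commutator hc hm
    | succ t ih =>
      intro v hv
      refine h.com_closure (s := {m | ∃ c ∈ A, ∃ u ∈ ser A M t, ⁅c, u⁆ = m}) ?_ (ser_le hMZ _) ?_ hv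
      · rintro _ ⟨c, -, u, hu, rfl⟩
        exact h.ZC (h.mem_Z (ser_le hMZ t hu))
      · rintro _ ⟨c, hc, u, hu, rfl⟩
        rw [h.com_comm (h.commA hb hc) (h.ZC (ser_le hMZ t hu)) (h.mem_Z (ser_le hMZ t hu))]
        exact Subgroup.commutator_mem_commutator hc (ih u hu)
  have hI : ser A M (n - 2) ≤ A := by
    have hbK : b ∈ A ⊓ Subgroup.centralizer ((ser A M (n - 2) : Subgroup G) : Set G) := by
      refine ⟨hb, Subgroup.mem_centralizer_iff.2 fun v hv => ?_⟩
      have := hcom (n - 2) v hv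
      rw [show n - 2 + 2 = n by omega, Nat.find_spec hex, Subgroup.mem_bot] at this
      exact (commutatorElement_eq_one_iff_mul_comm.1 this).symm
    refine h.le_of_not_le ((ser_le hMZ _).trans h.ZC) (h.comm_Z (ser_le hMZ _)) ?_
      (h.cent_Z (ser_le hMZ _)) fun hle => hbQ (hle hbK)
    rw [show n - 2 = (n - 3) + 1 by omega, ser_succ]
    exact h.card_commutator (ser_le hMZ _)
  refine Nat.find_min hex (show n - 2 + 1 < n by omega) ?_
  rw [ser_succ]
  exact h.commutator_eq_bot_of_le hI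

/-- Degree three on the factors in `Z` centralised by `Q`. -/
theorem deg_Z {U V : Subgroup G} [V.Normal] (hU : U ≤ Z) (hUV : ⁅U, Q⁆ ≤ V) : ser A U 3 ≤ V := by
  conv_lhs => rw [← Subgroup.closure_eq U]
  refine h.ser_three_le (fun x hx => hU hx) fun a ha b hb c hc x hx => ?_
  obtain ⟨k, hk, he⟩ := h.exists_rep_two (hU hx) (m := ⁅b, ⁅c, x⁆⁆)
    (Subgroup.commutator_mem_commutator hb (commutator_mem_comPart hc x))
  rw [he a ha]
  have hkx : ⁅k, x⁆ ∈ V := by
    rw [← commutatorElement_inv]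
    exact V.inv_mem (hUV (Subgroup.commutator_mem_commutator hx hk.2))
  rw [commutatorElement_def a ⁅k, x⁆]
  exact V.mul_mem ((inferInstance : V.Normal).conj_mem _ hkx a) (V.inv_mem hkx)

omit [Finite G] [Fact p.Prime] in
/-- Pairs of terms of the series commute, late enough, when `A` is quadratic on `Z`. -/
theorem pair {N : ℕ} (hq : ser A Z 2 = ⊥) (hN : ser A C N ≤ Z) :
    ∀ i j, (N ≤ i + j → ⁅A, ⁅ser A C i, ser A C j⁆⁆ = ⊥) ∧
      (N + 1 ≤ i + j → ⁅ser A C i, ser A C j⁆ = ⊥) := by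
  haveI := h.Cn
  haveI := h.Zn
  have hCC : ⁅C, C⁆ ≤ Z := Subgroup.commutator_le.2 fun a ha b hb => h.comm a (h.CQ ha) b hb
  have hin : ∀ i j, ⁅ser A C i, ser A C j⁆ ≤ Z := fun i j =>
    (Subgroup.commutator_mono (ser_le le_rfl i) (ser_le le_rfl j)).trans hCC
  intro i
  induction i with
  | zero =>
    intro j
    have hbot : N ≤ 0 + j → ⁅ser A C 0, ser A C j⁆ = ⊥ := fun hj => by
      refine Subgroup.commutator_eq_bot_iff_le_centralizer.2 fun c hc => ?_
      exact Subgroup.mem_centralizer_iff.2 fun z hz =>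
        (h.cen z (hN (ser_antitone (by omega) hz)) c hc).eq
    exact ⟨fun hj => by rw [hbot hj, Subgroup.commutator_bot_right], fun hj => hbot (by omega)⟩
  | succ i ih =>
    intro j
    have hA : A ≤ Subgroup.normalizer
        ((Z ⊓ Subgroup.centralizer (A : Set G) : Subgroup G) : Set G) := by
      refine Subgroup.le_normalizer_iff_commutator_le_left.2 (le_of_eq_of_le ?_ bot_le)
      exact Subgroup.commutator_eq_bot_iff_le_centralizer.2 inf_le_right
    have hC : ∀ k, ser A C k ≤ Subgroup.normalizer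
        ((Z ⊓ Subgroup.centralizer (A : Set G) : Subgroup G) : Set G) := fun k c hc =>
      Subgroup.centralizer_le_normalizer _ (Subgroup.mem_centralizer_iff.2
        fun z hz => (h.cen z hz.1 c (ser_le le_rfl k hc)).eq)
    have hW : ⁅Z, A⁆ ≤ Z ⊓ Subgroup.centralizer (A : Set G) := by
      refine le_inf (Subgroup.commutator_le_left Z A) ?_
      rw [Subgroup.le_centralizer_iff, ← Subgroup.commutator_eq_bot_iff_le_centralizer,
        Subgroup.commutator_comm Z A]
      exact hq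
    have hfix : ∀ {X : Subgroup G}, X ≤ Z → ⁅A, X⁆ = ⊥ →
        X ≤ Z ⊓ Subgroup.centralizer (A : Set G) := fun hX h1 =>
      le_inf hX (Subgroup.le_centralizer_iff.1 (Subgroup.commutator_eq_bot_iff_le_centralizer.1 h1))
    refine ⟨fun hij => ?_, fun hij => ?_⟩
    · have h1 : ⁅⁅ser A C i, ser A C j⁆, A⁆ ≤ Z ⊓ Subgroup.centralizer (A : Set G) :=
        (Subgroup.commutator_mono (hin i j) le_rfl).trans hW
      have h2 : ⁅⁅ser A C j, A⁆, ser A C i⁆ ≤ Z ⊓ Subgroup.centralizer (A : Set G) := by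
        rw [Subgroup.commutator_comm (ser A C j) A, ← ser_succ, Subgroup.commutator_comm]
        exact hfix (hin _ _) ((ih (j + 1)).1 (by omega))
      have h3 := ConjFunctor.commutator_le_of_rotate_nrm hA (hC i) (hC j) h1 h2
      exact Subgroup.commutator_eq_bot_iff_le_centralizer.2
        (Subgroup.le_centralizer_iff.1 (h3.trans inf_le_right))
    · have h1 : ⁅⁅ser A C i, ser A C j⁆, A⁆ ≤ (⊥ : Subgroup G) := by
        rw [Subgroup.commutator_comm]
        exact ((ih j).1 (by omega)).le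
      have h2 : ⁅⁅ser A C j, A⁆, ser A C i⁆ ≤ (⊥ : Subgroup G) := by
        rw [Subgroup.commutator_comm (ser A C j) A, ← ser_succ, Subgroup.commutator_comm]
        exact ((ih (j + 1)).2 (by omega)).le
      have hn : ∀ X : Subgroup G, X ≤ Subgroup.normalizer ((⊥ : Subgroup G) : Set G) := fun X => by
        rw [Subgroup.normalizer_eq_top (⊥ : Subgroup G)]; exact le_top
      exact le_bot_iff.1 (ConjFunctor.commutator_le_of_rotate_nrm (hn _) (hn _) (hn _) h1 h2)

/-- The quadratic case. -/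
theorem deg_C_quad (hq : ser A Z 2 = ⊥) : ser A C 5 ≤ Z := by
  classical
  haveI := h.Cn
  haveI := h.Zn
  have hex : ∃ n, ser A C n ≤ Z := by
    obtain ⟨n, hn⟩ := h.exists_ser_eq_bot
    exact ⟨n, (hn C (h.le_T le_rfl)).le.trans bot_le⟩
  set N := Nat.find hex with hN
  by_contra hcon
  have h6 : 6 ≤ N := by
    by_contra hlt
    exact hcon ((ser_antitone (by omega)).trans (Nat.find_spec hex))
  have hpair := h.pair hq (Nat.find_spec hex)
  have hcent : ∀ k ∈ A ⊓ Q, ∀ v ∈ ser A C 2, Commute k v := by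
    intro k hk v hv
    have hW : Subgroup.closure {z | ∃ x ∈ C, ⁅k, x⁆ = z} ≤ Z := by
      refine (Subgroup.closure_le _).2 ?_
      rintro _ ⟨x, hx, rfl⟩
      exact h.comm k hk.2 x hx
    have := (ser_mono hW 2) (h.com_ser hk hv)
    rw [hq, Subgroup.mem_bot] at this
    exact commutatorElement_eq_one_iff_mul_comm.1 this
  have hcomm : ∀ {i j}, N + 1 ≤ i + j → ∀ u ∈ ser A C i, ∀ v ∈ ser A C j, Commute u v :=
    fun hij u hu v hv => commutatorElement_eq_one_iff_mul_comm.1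
      (Subgroup.mem_bot.1 ((hpair _ _).2 hij ▸ Subgroup.commutator_mem_commutator hu hv))
  have hA : ser A C (N - 2) ≤ A := by
    rw [show N - 2 = (N - 3) + 1 by omega, ser_succ, Subgroup.commutator_le]
    intro a ha y hy
    set M := comPart A y with hM
    have hMC : M ≤ ser A C (N - 2) := by
      rw [show N - 2 = (N - 3) + 1 by omega]
      exact comPart_le hy
    have hMC' : M ≤ C := hMC.trans (ser_le le_rfl _)
    have hc : ∀ u ∈ M, ∀ v ∈ M, Commute u v := fun u hu v hv =>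
      hcomm (show N + 1 ≤ (N - 2) + (N - 2) by omega) u (hMC hu) v (hMC hv)
    suffices hMA : M ≤ A from hMA (commutator_mem_comPart ha y)
    by_cases hK : A ⊓ Subgroup.centralizer (M : Set G) ≤ Q
    swap
    · exact h.le_of_not_le hMC' hc (h.card_le hc).1 (fun k hk => Subgroup.mem_centralizer_iff.2
        fun m hm => (hcent k ⟨hk.1, h.CQ hk.2⟩ m (ser_antitone (by omega) (hMC hm))).eq.symm) hK
    have hyB : y ∈ M ⊔ (A ⊓ Subgroup.centralizer (M : Set G)) := by
      refine (h.mab_join hMC' hc (h.card_le hc).1).mem_of_commute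
        (h.le_T le_rfl (ser_le le_rfl _ hy)) fun b hb => ?_
      have hle : M ⊔ (A ⊓ Subgroup.centralizer (M : Set G)) ≤ Subgroup.centralizer {y} := by
        refine sup_le (fun m hm => ?_) (fun k hk => ?_)
        · exact Subgroup.mem_centralizer_singleton_iff.2
            (hcomm (show N + 1 ≤ (N - 2) + (N - 3) by omega) m (hMC hm) y hy).eq
        · exact Subgroup.mem_centralizer_singleton_iff.2
            (hcent k ⟨hk.1, hK hk⟩ y (ser_antitone (by omega) hy)).eq
      exact (Subgroup.mem_centralizer_singleton_iff.1 (hle hb)).symm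
    obtain ⟨b, hb, k, hk, hyk⟩ := h.exists_rep hMC' hc hyB
    have hM0 : M = ⊥ := by
      refine h.eq_bot_of_le_commutator (h.le_T hMC') ?_
      rw [hM, comPart, Subgroup.closure_le]
      rintro _ ⟨c, hcA, rfl⟩
      have e : ⁅c, y⁆ = ⁅c, ⁅b, y⁆⁆ := by
        conv_lhs => rw [hyk]
        rw [commutatorElement_mul_right_eq_mul_conj,
          commutatorElement_eq_one_iff_mul_comm.2 (h.commA hcA hk.1).eq, mul_one,
          mul_inv_cancel_right]
      rw [e]
      exact Subgroup.commutator_mem_commutator hcA (commutator_mem_comPart hb y)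
    rw [hM0]; exact bot_le
  refine Nat.find_min hex (show N - 2 + 1 < N by omega) ?_
  rw [ser_succ, h.commutator_eq_bot_of_le hA]
  exact bot_le

/-- The degrees. -/
theorem degrees : (ser A Z 2 = ⊥ ∧ ser A C 5 ≤ Z) ∨ ser A C 4 ≤ Z := by
  haveI := h.Cn
  haveI := h.Zn
  set L := ⁅A, Z⁆ with hL
  set K := A ⊓ Subgroup.centralizer (L : Set G) with hK
  have hLZ : L ≤ Z := Subgroup.commutator_le_right A Z
  by_cases hKQ : K ≤ Q
  swap
  · have hLA := h.le_of_not_le (hLZ.trans h.ZC) (h.comm_Z hLZ) (h.card_commutator le_rfl)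
      (h.cent_Z hLZ) hKQ
    have hq : ser A Z 2 = ⊥ := h.commutator_eq_bot_of_le hLA
    exact Or.inl ⟨hq, h.deg_C_quad hq⟩
  refine Or.inr ?_
  have hK3 : ∀ k ∈ K, ∀ v ∈ ser A C 3, Commute k v := by
    intro k hk v hv
    have hkA : k ∈ A ⊓ Q := ⟨hk.1, hKQ hk⟩
    have h1 : ser A (Subgroup.closure {z | ∃ x ∈ C, ⁅k, x⁆ = z}) 3 ≤ ⊥ := by
      refine h.ser_three_le ?_ ?_
      · rintro _ ⟨x, hx, rfl⟩
        exact h.comm k hkA.2 x hx
      · rintro a ha b hb c hc _ ⟨x, hx, rfl⟩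
        have hkx : ⁅k, x⁆ ∈ Z := h.comm k hkA.2 x hx
        obtain ⟨k', hk', he⟩ := h.exists_rep_two hkx (m := ⁅b, ⁅c, ⁅k, x⁆⁆⁆)
          (Subgroup.commutator_mem_commutator hb (commutator_mem_comPart hc _))
        have hk'x : ⁅k', x⁆ ∈ Z := h.comm k' hk'.2 x hx
        rw [Subgroup.mem_bot, he a ha, h.com_comm (h.commA hk'.1 hk.1) hx hk'x,
          ← h.com_comm (h.commA hk.1 ha) (h.ZC hk'x) (h.mem_Z hk'x)]
        exact commutatorElement_eq_one_iff_mul_comm.2 (Subgroup.mem_centralizer_iff.1 hk.2 _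
          (Subgroup.commutator_mem_commutator ha hk'x)).symm
    exact commutatorElement_eq_one_iff_mul_comm.1 (Subgroup.mem_bot.1 (h1 (h.com_ser hkA hv)))
  have hmab := h.mab_join (hLZ.trans h.ZC) (h.comm_Z hLZ) (h.card_commutator le_rfl)
  have hle : ser A C 3 ≤ Z ⊔ A := by
    intro c hc
    have hc' : c ∈ L ⊔ K := by
      refine hmab.mem_of_commute (h.le_T le_rfl (ser_le le_rfl 3 hc)) fun b hb => ?_
      have hle : L ⊔ K ≤ Subgroup.centralizer {c} :=
        sup_le (fun l hl => Subgroup.mem_centralizer_singleton_iff.2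
          (h.cen l (hLZ hl) c (ser_le le_rfl 3 hc)).eq)
          (fun k hk => Subgroup.mem_centralizer_singleton_iff.2 (hK3 k hk c hc).eq)
      exact (Subgroup.mem_centralizer_singleton_iff.1 (hle hb)).symm
    exact (sup_le_sup hLZ inf_le_left : L ⊔ K ≤ Z ⊔ A) hc'
  rw [ser_succ, Subgroup.commutator_le]
  intro a ha c hc
  obtain ⟨z, hz, b, hb, rfl⟩ := Subgroup.mem_sup_of_normal_left.1 (hle hc)
  rw [commutatorElement_mul_right_eq_mul_conj,
    commutatorElement_eq_one_iff_mul_comm.2 (h.commA ha hb).eq, mul_one, mul_inv_cancel_right]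
  exact h.mem_Z hz

end Setup

end Cfsg.Agent.LAE65.JTransfer
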