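import Cfsg.Agent.LAE65.JTransfer.Degree
import Cfsg.Agent.ConjFunctor.KInfConsequences
import Cfsg.Agent.ConjFunctor.TransferControl
import Cfsg.Agent.LocalEven61.ZJFunctor

/-!
An element of degree at most six outside `O_p` when `J(T)` is not normal.
-/

set_option autoImplicit false

open scoped commutatorElement

namespace Cfsg.Agent.LAE65.JTransfer

open Cfsg ConjFunctor LocalEven62

universe u

variable {G : Type u} [Group G] [Finite G] {p : ℕ} [hp : Fact p.Prime]

theorem exists_engel_six (T : Sylow p G) (hn : ¬ (jA (T : Subgroup G)).Normal) :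
    ∃ g : G, g ∈ (T : Subgroup G) ∧ g ∉ pCore p G ∧ EngelBelow (pCore p G) 6 g := by
  classical
  obtain ⟨C, hC, hcent⟩ := ConjFunctor.exists_crit (G := G) (p := p)
  set Q := pCore p G with hQ
  set Z := KInf.zc C with hZ
  haveI := hC.normal
  haveI := hC.zc_normal
  have hQT : Q ≤ (T : Subgroup G) := Thompson.pCore_le_sylow T
  have hex : ∃ A, MAb (T : Subgroup G) A ∧ ¬ A ≤ Q := by
    by_contra hcon
    push Not at hcon
    have hJ : jA (T : Subgroup G) ≤ Q := by
      rw [jA_eq_sSup]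
      exact sSup_le fun A hA => hcon A hA
    refine hn ?_
    rw [← jA_eq_of_le hQT hJ, ← Subgroup.normalizer_eq_top_iff, eq_top_iff]
    exact (Subgroup.normalizer_eq_top Q).ge.trans (normalizer_le_normalizer_jA Q)
  obtain ⟨A, ⟨hA, hAQ⟩, hmax⟩ := Set.exists_max_image
    {A : Subgroup G | MAb (T : Subgroup G) A ∧ ¬ A ≤ Q} (fun A => Nat.card ↥(A ⊓ C))
    (Set.toFinite _) hex
  have h : Setup p (T : Subgroup G) Q C Z A :=
    { mab := hA
      not_le := hAQ
      maxInt := fun B hB hBQ => hmax B ⟨hB, hBQ⟩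
      isP := T.2
      QT := hQT
      CQ := hC.le
      ZC := inf_le_left
      Cn := hC.normal
      Zn := hC.zc_normal
      cen := fun z hz c hc => (Subgroup.mem_centralizer_iff.1 hz.2 c hc).symm
      comm := fun q hq c hc => hC.comm (Subgroup.commutator_mem_commutator hq hc) }
  obtain ⟨g, hgA, hgQ⟩ := SetLike.not_le_iff_exists.1 hAQ
  refine ⟨g, hA.1 hgA, hgQ, fun U V hUV hUQ => ?_⟩
  haveI := hUV.2.1
  have hQp : IsPGroup p ↥Q := Thompson.isPGroup_pCore
  obtain ⟨i, j, hj1, hji, hij, hiC, hjZ⟩ : ∃ i j : ℕ, 1 ≤ j ∧ j ≤ i ∧ i + j - 1 ≤ 6 ∧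
      ser A C i ≤ Z ∧ ∀ U V : Subgroup G, V.Normal → U ≤ Z → ⁅U, Q⁆ ≤ V → ser A U j ≤ V := by
    rcases h.degrees with ⟨hq, h5⟩ | h4
    · exact ⟨5, 2, by omega, by omega, by omega, h5, fun U V _ hU _ =>
        ((ser_mono hU 2).trans hq.le).trans bot_le⟩
    · exact ⟨4, 3, by omega, by omega, by omega, h4, fun U V hV hU hUV =>
        haveI := hV; h.deg_Z hU hUV⟩
  have hfac : ∀ U V : Subgroup G, IsChiefFactor U V → U ≤ C → ⁅U, Q⁆ ≤ V := fun U V h hU =>
    ChiefFactor.commutator_le_of_normal_pgroup h (hQp.to_le (hU.trans hC.le)) hQp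
  refine (iterCommutator_antitone (by rw [nrm_eq_top]; exact le_top) hij).trans ?_
  refine iter_le_of_critical hQp hC.le hC.comm hcent g hj1 (fun U V hc hU => ?_)
    (fun U V hc hU => ?_) hUV hUQ
  · haveI := hc.2.1
    haveI := hc.2.2.1
    rcases hc.2.2.2 (U ⊓ Z ⊔ V) (Subgroup.sup_normal (U ⊓ Z) V) le_sup_right
      (sup_le inf_le_left hc.1.le) with he | he
    · refine le_trans (le_inf (iterCommutator_le_self (by rw [nrm_eq_top]; exact le_top) i) ?_)
        (le_sup_left.trans he.le)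
      exact ((iterCommutator_le_ser hU hgA i).trans hiC)
    · refine (iterCommutator_antitone (by rw [nrm_eq_top]; exact le_top) hji).trans ?_
      exact iter_le_of_sup_eq he ((iterCommutator_le_ser le_rfl hgA j).trans
        (hjZ (U ⊓ Z) V hc.2.2.1 inf_le_right
          ((Subgroup.commutator_mono inf_le_left le_rfl).trans (hfac U V hc hU))))
  · haveI := hc.2.1
    exact (iterCommutator_le_ser le_rfl hgA j).trans
      (hjZ U V hc.2.2.1 hU (hfac U V hc (hU.trans inf_le_left)))

end Cfsg.Agent.LAE65.JTransfer
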