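import Cfsg.Agent.LocalEven62.GlaubWC.MaxAb
import Cfsg.Agent.ConjFunctor.PairDegree
import Cfsg.Agent.Lib.Thompson.Replacement

/-!
Replacement for abelian subgroups of largest order acting on a class two normal subgroup.
-/

set_option autoImplicit false

open scoped commutatorElement

namespace Cfsg.Agent.LAE65.JTransfer

open Cfsg LocalEven62

variable {G : Type*} [Group G]

/-- The subgroup generated by the commutators of `A` with `y`. -/
def comPart (A : Subgroup G) (y : G) : Subgroup G :=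
  Subgroup.closure {m | ∃ a ∈ A, ⁅a, y⁆ = m}

theorem commutator_mem_comPart {A : Subgroup G} {a : G} (ha : a ∈ A) (y : G) :
    ⁅a, y⁆ ∈ comPart A y := Subgroup.subset_closure ⟨a, ha, rfl⟩

theorem comPart_le {A X : Subgroup G} {y : G} (hy : y ∈ X) : comPart A y ≤ ⁅A, X⁆ := by
  rw [comPart, Subgroup.closure_le]
  rintro _ ⟨a, ha, rfl⟩
  exact Subgroup.commutator_mem_commutator ha hy

/-- The iterated commutators of `A` on `X`. -/
def ser (A X : Subgroup G) : ℕ → Subgroup G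
  | 0 => X
  | n + 1 => ⁅A, ser A X n⁆

theorem ser_zero (A X : Subgroup G) : ser A X 0 = X := rfl

theorem ser_succ (A X : Subgroup G) (n : ℕ) : ser A X (n + 1) = ⁅A, ser A X n⁆ := rfl

theorem ser_le {A X N : Subgroup G} [N.Normal] (h : X ≤ N) : ∀ n, ser A X n ≤ N
  | 0 => h
  | n + 1 => (Subgroup.commutator_mono le_rfl (ser_le h n)).trans (Subgroup.commutator_le_right A N)

theorem ser_antitone {A X : Subgroup G} [X.Normal] {m n : ℕ} (h : m ≤ n) :
    ser A X n ≤ ser A X m := by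
  obtain ⟨k, rfl⟩ := Nat.exists_eq_add_of_le h
  clear h
  induction m with
  | zero => rw [Nat.zero_add]; exact ser_le le_rfl k
  | succ m ih =>
    rw [Nat.add_right_comm, ser_succ, ser_succ]
    exact Subgroup.commutator_mono le_rfl ih

theorem iterCommutator_le_ser {A U X : Subgroup G} (hUX : U ≤ X) {g : G} (hg : g ∈ A) :
    ∀ n, iterCommutator U (Subgroup.zpowers g) n ≤ ser A X n
  | 0 => hUX
  | n + 1 => by
    rw [ConjFunctor.iterCommutator_succ, ser_succ, Subgroup.commutator_comm]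
    exact Subgroup.commutator_mono (Subgroup.zpowers_le.2 hg) (iterCommutator_le_ser hUX hg n)

/-- An abelian subgroup of largest order chosen for replacement into `C`. -/
structure Setup (p : ℕ) (T Q C Z A : Subgroup G) : Prop where
  mab : MAb T A
  not_le : ¬ A ≤ Q
  maxInt : ∀ B : Subgroup G, MAb T B → ¬ B ≤ Q → Nat.card ↥(B ⊓ C) ≤ Nat.card ↥(A ⊓ C)
  isP : IsPGroup p ↥T
  QT : Q ≤ T
  CQ : C ≤ Q
  ZC : Z ≤ C
  Cn : C.Normal
  Zn : Z.Normal
  cen : ∀ z ∈ Z, ∀ c ∈ C, Commute z c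
  comm : ∀ q ∈ Q, ∀ c ∈ C, ⁅q, c⁆ ∈ Z

namespace Setup

variable {p : ℕ} {T Q C Z A : Subgroup G} (h : Setup p T Q C Z A)
include h

theorem le_T {M : Subgroup G} (hM : M ≤ C) : M ≤ T := hM.trans (h.CQ.trans h.QT)

theorem commA {a b : G} (ha : a ∈ A) (hb : b ∈ A) : Commute a b := h.mab.commute ha hb

theorem mem_C {a v : G} (hv : v ∈ C) : ⁅a, v⁆ ∈ C := by
  rw [commutatorElement_def]
  exact C.mul_mem (h.Cn.conj_mem v hv a) (C.inv_mem hv)

theorem mem_Z {a v : G} (hv : v ∈ Z) : ⁅a, v⁆ ∈ Z := by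
  rw [commutatorElement_def]
  exact Z.mul_mem (h.Zn.conj_mem v hv a) (Z.inv_mem hv)

/-- A commutator with a product, the first commutator being central in `C`. -/
theorem com_mul {k v w : G} (hv : v ∈ C) (hkw : ⁅k, w⁆ ∈ Z) :
    ⁅k, v * w⁆ = ⁅k, v⁆ * ⁅k, w⁆ := by
  rw [commutatorElement_mul_right_eq_mul_conj]
  have := (h.cen _ hkw v hv).eq
  rw [mul_assoc ⁅k, v⁆, mul_assoc ⁅k, v⁆, ← this, mul_assoc, mul_inv_cancel, mul_one]

theorem com_inv {k v : G} (hv : v ∈ C) (hkv : ⁅k, v⁆ ∈ Z) : ⁅k, v⁻¹⁆ = ⁅k, v⁆⁻¹ := by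
  have h1 := h.com_mul (k := k) (C.inv_mem hv) hkv
  rw [inv_mul_cancel, commutatorElement_one_right] at h1
  exact eq_inv_of_mul_eq_one_left h1.symm

/-- Commutation with commuting elements commutes, as soon as one lands in `Z`. -/
theorem com_comm {k a v : G} (hka : Commute k a) (hv : v ∈ C) (hkv : ⁅k, v⁆ ∈ Z) :
    ⁅k, ⁅a, v⁆⁆ = ⁅a, ⁅k, v⁆⁆ := by
  set z := ⁅k, v⁆ with hz
  have e1 : k * v * k⁻¹ = z * v := by rw [hz, commutatorElement_def]; group
  have e2 : k * ⁅a, v⁆ * k⁻¹ = ⁅a, z * v⁆ := by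
    rw [conjugate_commutatorElement, e1, hka.eq, mul_inv_cancel_right]
  have hc : Commute z ⁅a, v⁆ := h.cen _ hkv _ (h.mem_C hv)
  have e3 : ⁅a, z * v⁆ = ⁅a, z⁆ * ⁅a, v⁆ := by
    rw [commutatorElement_mul_right_eq_mul_conj, mul_assoc ⁅a, z⁆, mul_assoc ⁅a, z⁆, hc.eq,
      mul_assoc ⁅a, v⁆, mul_inv_cancel, mul_one]
  rw [commutatorElement_def k ⁅a, v⁆, e2, e3, mul_inv_cancel_right]

/-- A commutator map into `Z` sends a generated subgroup where it sends the generators. -/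
theorem com_closure {k : G} {s : Set G} (hs : s ⊆ (C : Set G)) {P : Subgroup G} (hPZ : P ≤ Z)
    (hks : ∀ v ∈ s, ⁅k, v⁆ ∈ P) {v : G} (hv : v ∈ Subgroup.closure s) :
    ⁅k, v⁆ ∈ P := by
  have key : v ∈ C ∧ ⁅k, v⁆ ∈ P := by
    induction hv using Subgroup.closure_induction with
    | mem x hx => exact ⟨hs hx, hks x hx⟩
    | one => exact ⟨C.one_mem, by rw [commutatorElement_one_right]; exact P.one_mem⟩
    | mul x y _ _ hx hy =>
      exact ⟨C.mul_mem hx.1 hy.1, by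
        rw [h.com_mul hx.1 (hPZ hy.2)]; exact P.mul_mem hx.2 hy.2⟩
    | inv x _ hx =>
      exact ⟨C.inv_mem hx.1, by rw [h.com_inv hx.1 (hPZ hx.2)]; exact P.inv_mem hx.2⟩
  exact key.2

/-! ### One element -/

variable [Finite G]

theorem isMulCommutative_join {M : Subgroup G} (hc : ∀ x ∈ M, ∀ y ∈ M, Commute x y) :
    IsMulCommutative (M ⊔ (A ⊓ Subgroup.centralizer (M : Set G)) : Subgroup G) :=
  isMulCommutative_sup hc (fun a ha b hb => h.commA ha.1 hb.1)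
    (fun a ha b hb => (Subgroup.mem_centralizer_iff.1 hb.2 a ha : Commute a b))

theorem join_le {M : Subgroup G} (hMC : M ≤ C) :
    M ⊔ (A ⊓ Subgroup.centralizer (M : Set G)) ≤ T :=
  sup_le (h.le_T hMC) (inf_le_left.trans h.mab.1)

/-- `M ⊔ C_A(M)` again has largest order. -/
theorem mab_join {M : Subgroup G} (hMC : M ≤ C) (hc : ∀ x ∈ M, ∀ y ∈ M, Commute x y)
    (hcard : Nat.card ↥A ≤ Nat.card ↥(M ⊔ (A ⊓ Subgroup.centralizer (M : Set G)))) :
    MAb T (M ⊔ (A ⊓ Subgroup.centralizer (M : Set G))) :=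
  ⟨h.join_le hMC, h.isMulCommutative_join hc, fun B hB hBc => (h.mab.2.2 B hB hBc).trans hcard⟩

/-- The choice of `A`: if `C_A(M)` is not inside `Q` then `M` is inside `A`. -/
theorem le_of_not_le {M : Subgroup G} (hMC : M ≤ C) (hc : ∀ x ∈ M, ∀ y ∈ M, Commute x y)
    (hcard : Nat.card ↥A ≤ Nat.card ↥(M ⊔ (A ⊓ Subgroup.centralizer (M : Set G))))
    (hAC : A ⊓ C ≤ Subgroup.centralizer (M : Set G))
    (hK : ¬ A ⊓ Subgroup.centralizer (M : Set G) ≤ Q) : M ≤ A := by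
  set B := M ⊔ (A ⊓ Subgroup.centralizer (M : Set G)) with hB
  have hBQ : ¬ B ≤ Q := fun hle => hK (le_sup_right.trans hle)
  have hle : A ⊓ C ≤ B ⊓ C := le_inf ((le_inf inf_le_left hAC).trans le_sup_right) inf_le_right
  have he := Subgroup.eq_of_le_of_card_ge hle (h.maxInt B (h.mab_join hMC hc hcard) hBQ)
  intro x hx
  have : x ∈ A ⊓ C := he ▸ Subgroup.mem_inf.2 ⟨Subgroup.mem_sup_left hx, hMC hx⟩
  exact this.1

omit [Finite G] in
theorem commute_fixed {y : G} {m : G} (hm : m ∈ A) {a : G} (ha : a ∈ A) : ⁅a, m⁆ = 1 :=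
  commutatorElement_eq_one_iff_mul_comm.2 (h.commA ha hm).eq

omit [Finite G] in
/-- The injectivity behind replacement. -/
theorem key {y : G} (hc : ∀ x ∈ comPart A y, ∀ x' ∈ comPart A y, Commute x x')
    {a b : G} (ha : a ∈ A) (hb : b ∈ A) (hab : ⁅a, y⁆⁻¹ * ⁅b, y⁆ ∈ A) :
    a⁻¹ * b ∈ A ⊓ Subgroup.centralizer ((comPart A y : Subgroup G) : Set G) := by
  set d := a⁻¹ * b with hd
  have hdA : d ∈ A := A.mul_mem (A.inv_mem ha) hb
  have e1 : ⁅b, y⁆ = a * ⁅d, y⁆ * a⁻¹ * ⁅a, y⁆ := by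
    rw [← commutatorElement_mul_left_eq_conj_mul, hd, mul_inv_cancel_left]
  have e1' : a * ⁅d, y⁆ * a⁻¹ = ⁅b, y⁆ * ⁅a, y⁆⁻¹ := by rw [e1, mul_inv_cancel_right]
  have e2 : a * ⁅d, y⁆ * a⁻¹ ∈ A := by
    rw [e1', (hc _ (commutator_mem_comPart hb y) _
      ((comPart A y).inv_mem (commutator_mem_comPart ha y))).eq]
    exact hab
  have hdy : ⁅d, y⁆ ∈ A := by
    have := A.mul_mem (A.mul_mem (A.inv_mem ha) e2) ha
    rwa [show a⁻¹ * (a * ⁅d, y⁆ * a⁻¹) * a = ⁅d, y⁆ by group] at this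
  refine ⟨hdA, ?_⟩
  suffices hle : comPart A y ≤ Subgroup.centralizer {d} by
    exact Subgroup.mem_centralizer_iff.2 fun m hm => Subgroup.mem_centralizer_singleton_iff.1 (hle hm)
  rw [comPart, Subgroup.closure_le]
  rintro _ ⟨c, hcA, rfl⟩
  rw [SetLike.mem_coe, Subgroup.mem_centralizer_singleton_iff]
  have e3 : ⁅c * d, y⁆ = c * ⁅d, y⁆ * c⁻¹ * ⁅c, y⁆ := commutatorElement_mul_left_eq_conj_mul ..
  have e4 : ⁅d * c, y⁆ = d * ⁅c, y⁆ * d⁻¹ * ⁅d, y⁆ := commutatorElement_mul_left_eq_conj_mul ..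
  rw [(h.commA hcA hdA).eq, e4, (h.commA hcA hdy).eq, mul_inv_cancel_right,
    (hc _ (commutator_mem_comPart hdA y) _ (commutator_mem_comPart hcA y)).eq] at e3
  exact (mul_inv_eq_iff_eq_mul.1 (mul_right_cancel e3)).symm

/-- Replacement. -/
theorem card_le {y : G} (hc : ∀ x ∈ comPart A y, ∀ x' ∈ comPart A y, Commute x x') :
    Nat.card ↥A ≤
      Nat.card ↥(comPart A y ⊔ (A ⊓ Subgroup.centralizer ((comPart A y : Subgroup G) : Set G))) ∧
    (Nat.card ↥(comPart A y ⊔ (A ⊓ Subgroup.centralizer ((comPart A y : Subgroup G) : Set G))) ≤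
        Nat.card ↥A →
      ∀ w ∈ comPart A y ⊔ (A ⊓ Subgroup.centralizer ((comPart A y : Subgroup G) : Set G)),
        ∃ b ∈ A, ∃ k ∈ A ⊓ Subgroup.centralizer ((comPart A y : Subgroup G) : Set G),
          w = ⁅b, y⁆ * k) := by
  classical
  set K := A ⊓ Subgroup.centralizer ((comPart A y : Subgroup G) : Set G) with hKdef
  set B := comPart A y ⊔ K with hBdef
  let q : ↥A → ↥A ⧸ K.subgroupOf A := QuotientGroup.mk
  let r : ↥A → ↥A := fun a => (q a).out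
  have hrq : ∀ a, q (r a) = q a := fun a => QuotientGroup.out_eq' _
  have hra : ∀ a : ↥A, ((r a : G))⁻¹ * a ∈ K := by
    intro a
    have := QuotientGroup.eq.1 (hrq a)
    simpa [Subgroup.mem_subgroupOf] using this
  let f : ↥A → ↥B := fun a =>
    ⟨⁅(r a : G), y⁆ * ((r a : G)⁻¹ * a),
      B.mul_mem (Subgroup.mem_sup_left (commutator_mem_comPart (r a).2 y))
        (Subgroup.mem_sup_right (hra a))⟩
  have hf : Function.Injective f := by
    intro a a' he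
    have h1 : ⁅(r a : G), y⁆ * ((r a : G)⁻¹ * a) = ⁅(r a' : G), y⁆ * ((r a' : G)⁻¹ * a') :=
      congrArg Subtype.val he
    have h2 : ⁅(r a : G), y⁆⁻¹ * ⁅(r a' : G), y⁆ = ((r a : G)⁻¹ * a) * ((r a' : G)⁻¹ * a')⁻¹ := by
      rw [eq_mul_inv_iff_mul_eq, mul_assoc, ← h1, inv_mul_cancel_left]
    have h3 := h.key hc (r a).2 (r a').2 (h2 ▸ A.mul_mem (hra a).1 (A.inv_mem (hra a').1))
    have hq : q a = q a' := by
      rw [← hrq a, ← hrq a']
      refine QuotientGroup.eq.2 ?_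
      simpa only [Subgroup.mem_subgroupOf, Subgroup.coe_mul, InvMemClass.coe_inv] using h3
    have hr : r a = r a' := congrArg Quotient.out hq
    rw [hr] at h1
    exact Subtype.ext (mul_left_cancel (mul_left_cancel h1))
  refine ⟨Nat.card_le_card_of_injective f hf, fun hle w hw => ?_⟩
  obtain ⟨a, ha⟩ := (hf.bijective_of_nat_card_le hle).2 ⟨w, hw⟩
  exact ⟨r a, (r a).2, _, hra a, (congrArg Subtype.val ha).symm⟩

/-- Replacement, as a bijection. -/
theorem exists_rep {y : G} (hy : comPart A y ≤ C)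
    (hc : ∀ x ∈ comPart A y, ∀ x' ∈ comPart A y, Commute x x') {w : G}
    (hw : w ∈ comPart A y ⊔ (A ⊓ Subgroup.centralizer ((comPart A y : Subgroup G) : Set G))) :
    ∃ b ∈ A, ∃ k ∈ A ⊓ Subgroup.centralizer ((comPart A y : Subgroup G) : Set G), w = ⁅b, y⁆ * k :=
  (h.card_le hc).2 (h.mab.2.2 _ (h.join_le hy) (h.isMulCommutative_join hc)) w hw

/-! ### Subgroups of `Z` -/

omit [Finite G] in
theorem comm_Z {M : Subgroup G} (hM : M ≤ Z) : ∀ x ∈ M, ∀ y ∈ M, Commute x y :=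
  fun x hx y hy => h.cen x (hM hx) y (h.ZC (hM hy))

omit [Finite G] in
theorem cent_Z {M : Subgroup G} (hM : M ≤ Z) : A ⊓ C ≤ Subgroup.centralizer (M : Set G) :=
  fun x hx => Subgroup.mem_centralizer_iff.2 fun m hm => (h.cen m (hM hm) x hx.2).eq

/-- Subgroups attaining the bound form a family closed under joins. -/
theorem card_sup {I₁ I₂ : Subgroup G} (h₁ : I₁ ≤ Z) (h₂ : I₂ ≤ Z)
    (hc₁ : Nat.card ↥A ≤ Nat.card ↥(I₁ ⊔ (A ⊓ Subgroup.centralizer (I₁ : Set G))))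
    (hc₂ : Nat.card ↥A ≤ Nat.card ↥(I₂ ⊔ (A ⊓ Subgroup.centralizer (I₂ : Set G)))) :
    Nat.card ↥A ≤
      Nat.card ↥((I₁ ⊔ I₂) ⊔ (A ⊓ Subgroup.centralizer ((I₁ ⊔ I₂ : Subgroup G) : Set G))) := by
  have hmem : ∀ {I : Subgroup G}, I ≤ Z →
      A ⊓ Z ≤ A ⊓ Subgroup.centralizer (I : Set G) :=
    fun {I} hI x hx => ⟨hx.1, h.cent_Z hI ⟨hx.1, h.ZC hx.2⟩⟩
  -- the card formula
  have hform : ∀ {J K : Subgroup G}, J ≤ Z → K ≤ A → A ⊓ Z ≤ J → A ⊓ Z ≤ K →
      K ≤ Subgroup.centralizer (J : Set G) →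
      Nat.card ↥(J ⊔ K) * Nat.card ↥(A ⊓ Z) = Nat.card ↥J * Nat.card ↥K := by
    intro J K hJ hK hZJ hZK hKJ
    have he : J ⊓ K = A ⊓ Z := le_antisymm (le_inf (inf_le_right.trans hK) (inf_le_left.trans hJ))
      (le_inf hZJ hZK)
    rw [← he]
    exact Thompson.card_sup_mul_card_inf (hKJ.trans (Subgroup.centralizer_le_normalizer _))
  set D := A ⊓ Z with hD
  set K₁ := A ⊓ Subgroup.centralizer (I₁ : Set G) with hK₁
  set K₂ := A ⊓ Subgroup.centralizer (I₂ : Set G) with hK₂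
  set J₁ := I₁ ⊔ D with hJ₁
  set J₂ := I₂ ⊔ D with hJ₂
  set J₃ := J₁ ⊓ J₂ with hJ₃
  set K₃ := A ⊓ Subgroup.centralizer (J₃ : Set G) with hK₃
  set K := A ⊓ Subgroup.centralizer ((I₁ ⊔ I₂ : Subgroup G) : Set G) with hK
  have hJ₁Z : J₁ ≤ Z := sup_le h₁ inf_le_right
  have hJ₂Z : J₂ ≤ Z := sup_le h₂ inf_le_right
  have hcJ : ∀ {I : Subgroup G}, A ⊓ Subgroup.centralizer (I : Set G) ≤
      Subgroup.centralizer ((I ⊔ D : Subgroup G) : Set G) := by
    intro I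
    rw [Subgroup.le_centralizer_iff]
    refine sup_le (Subgroup.le_centralizer_iff.1 inf_le_right) fun x hx => ?_
    exact Subgroup.mem_centralizer_iff.2 fun a ha => (h.commA ha.1 hx.1).eq
  have hB₁ : J₁ ⊔ K₁ = I₁ ⊔ K₁ := by
    rw [hJ₁, sup_assoc, sup_eq_right.2 (hmem h₁)]
  have hB₂ : J₂ ⊔ K₂ = I₂ ⊔ K₂ := by
    rw [hJ₂, sup_assoc, sup_eq_right.2 (hmem h₂)]
  have hJ : J₁ ⊔ J₂ = I₁ ⊔ I₂ ⊔ D := by
    rw [hJ₁, hJ₂, sup_sup_sup_comm, sup_idem]
  have hB : J₁ ⊔ J₂ ⊔ K = I₁ ⊔ I₂ ⊔ K := by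
    rw [hJ, sup_assoc, sup_eq_right.2 (hmem (sup_le h₁ h₂))]
  have f₁ := hform hJ₁Z inf_le_left le_sup_right (hmem h₁) hcJ
  have f₂ := hform hJ₂Z inf_le_left le_sup_right (hmem h₂) hcJ
  have f₃ := hform (inf_le_left.trans hJ₁Z) inf_le_left (le_inf le_sup_right le_sup_right)
    (hmem (inf_le_left.trans hJ₁Z)) inf_le_right (J := J₃) (K := K₃)
  have hKJ : K ≤ Subgroup.centralizer ((J₁ ⊔ J₂ : Subgroup G) : Set G) := by rw [hJ]; exact hcJ
  have f := hform (sup_le hJ₁Z hJ₂Z) inf_le_left (le_sup_right.trans le_sup_left)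
    (hmem (sup_le h₁ h₂)) hKJ
  have fJ : Nat.card ↥(J₁ ⊔ J₂) * Nat.card ↥J₃ = Nat.card ↥J₁ * Nat.card ↥J₂ :=
    Thompson.card_sup_mul_card_inf fun x hx => Subgroup.centralizer_le_normalizer _
      (Subgroup.mem_centralizer_iff.2 fun j hj => (h.cen j (hJ₁Z hj) x (h.ZC (hJ₂Z hx))).eq)
  have hKK : K₁ ⊔ K₂ ≤ K₃ := by
    refine sup_le (le_inf inf_le_left ?_) (le_inf inf_le_left ?_)
    · exact hcJ.trans (Subgroup.centralizer_le (SetLike.coe_subset_coe.2 inf_le_left))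
    · exact hcJ.trans (Subgroup.centralizer_le (SetLike.coe_subset_coe.2 inf_le_right))
  have hKinf : K₁ ⊓ K₂ ≤ K := by
    refine le_inf (inf_le_left.trans inf_le_left) ?_
    rw [Subgroup.le_centralizer_iff]
    exact sup_le (Subgroup.le_centralizer_iff.1 (inf_le_left.trans inf_le_right))
      (Subgroup.le_centralizer_iff.1 (inf_le_right.trans inf_le_right))
  have fK : Nat.card ↥K₁ * Nat.card ↥K₂ ≤ Nat.card ↥K₃ * Nat.card ↥K := by
    rw [← Thompson.card_sup_mul_card_inf (H := K₁) (K := K₂) fun x hx =>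
      Subgroup.centralizer_le_normalizer _ (Subgroup.mem_centralizer_iff.2
        fun j hj => (h.commA hj.1 hx.1).eq)]
    exact Nat.mul_le_mul (Nat.le_of_dvd Nat.card_pos (Subgroup.card_dvd_of_le hKK))
      (Nat.le_of_dvd Nat.card_pos (Subgroup.card_dvd_of_le hKinf))
  have h3 : Nat.card ↥(J₃ ⊔ K₃) ≤ Nat.card ↥A :=
    h.mab.2.2 _ (h.join_le ((inf_le_left.trans hJ₁Z).trans h.ZC))
      (h.isMulCommutative_join (h.comm_Z (inf_le_left.trans hJ₁Z)))
  rw [← hB₁] at hc₁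
  rw [← hB₂] at hc₂
  rw [← hB]
  have hpos : 0 < Nat.card ↥D := Nat.card_pos
  have h3pos : 0 < Nat.card ↥(J₃ ⊔ K₃) := Nat.card_pos
  refine Nat.le_of_mul_le_mul_right ?_ (Nat.mul_pos h3pos (Nat.mul_pos hpos hpos))
  calc Nat.card ↥A * (Nat.card ↥(J₃ ⊔ K₃) * (Nat.card ↥D * Nat.card ↥D))
      ≤ Nat.card ↥A * (Nat.card ↥A * (Nat.card ↥D * Nat.card ↥D)) :=
        Nat.mul_le_mul_left _ (Nat.mul_le_mul_right _ h3)
    _ ≤ Nat.card ↥(J₁ ⊔ K₁) * (Nat.card ↥(J₂ ⊔ K₂) * (Nat.card ↥D * Nat.card ↥D)) :=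
        Nat.mul_le_mul hc₁ (Nat.mul_le_mul_right _ hc₂)
    _ = (Nat.card ↥J₁ * Nat.card ↥J₂) * (Nat.card ↥K₁ * Nat.card ↥K₂) := by
        linear_combination (Nat.card ↥(J₂ ⊔ K₂) * Nat.card ↥D) * f₁ + (Nat.card ↥J₁ * Nat.card ↥K₁) * f₂
    _ ≤ (Nat.card ↥(J₁ ⊔ J₂) * Nat.card ↥J₃) * (Nat.card ↥K₃ * Nat.card ↥K) := by
        rw [fJ]; exact Nat.mul_le_mul_left _ fK
    _ = (Nat.card ↥(J₁ ⊔ J₂) * Nat.card ↥K) * (Nat.card ↥J₃ * Nat.card ↥K₃) := by ring
    _ = _ := by rw [← f, ← f₃]; ring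

/-- Replacement for commutators of `A` with a part of `Z`. -/
theorem card_commutator {X : Subgroup G} (hX : X ≤ Z) :
    Nat.card ↥A ≤
      Nat.card ↥(⁅A, X⁆ ⊔ (A ⊓ Subgroup.centralizer ((⁅A, X⁆ : Subgroup G) : Set G))) := by
  classical
  have key : ∀ s : Finset G, (∀ x ∈ s, x ∈ Z) → Nat.card ↥A ≤
      Nat.card ↥((s.sup (comPart A)) ⊔ (A ⊓ Subgroup.centralizer ((s.sup (comPart A) : Subgroup G) : Set G))) := by
    intro s
    induction s using Finset.induction_on with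
    | empty =>
      intro _
      rw [Finset.sup_empty, bot_sup_eq, inf_eq_left.2]
      exact fun a _ => Subgroup.mem_centralizer_iff.2 fun m hm => by
        rw [Subgroup.mem_bot.1 hm, one_mul, mul_one]
    | @insert x s _ ih =>
      intro hs
      have hle : ∀ z ∈ Z, comPart A z ≤ Z := fun z hz => by
        rw [comPart, Subgroup.closure_le]
        rintro _ ⟨a, -, rfl⟩
        exact h.mem_Z hz
      rw [Finset.sup_insert]
      have hsZ : s.sup (comPart A) ≤ Z :=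
        Finset.sup_le fun z hz => hle z (hs z (Finset.mem_insert_of_mem hz))
      exact h.card_sup (hle x (hs x (Finset.mem_insert_self x s))) hsZ
        (h.card_le (h.comm_Z (hle x (hs x (Finset.mem_insert_self x s))))).1
        (ih fun z hz => hs z (Finset.mem_insert_of_mem hz))
  haveI := Fintype.ofFinite G
  have he : (Finset.univ.filter fun x => x ∈ X).sup (comPart A) = ⁅A, X⁆ := by
    refine le_antisymm (Finset.sup_le fun x hx => comPart_le (by simpa using hx)) ?_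
    rw [Subgroup.commutator_le]
    exact fun a ha x hx => (Finset.le_sup (f := comPart A) (by simpa using hx :
      x ∈ Finset.univ.filter fun x => x ∈ X)) (commutator_mem_comPart ha x)
  have := key (Finset.univ.filter fun x => x ∈ X) fun x hx => hX (by simpa using hx)
  rwa [he] at this

end Setup

end Cfsg.Agent.LAE65.JTransfer
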